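import Mathlib
import Groth.Agent.GlueFlatLib.Basic

/-!
Algebras along a glueing pair: finite type, finite presentation, étaleness are detected on the
two corners; a glueable algebra gives a glueing pair.
-/

set_option autoImplicit false
universe u

open TensorProduct

namespace Groth.Agent.GlueAlgLib

set_option maxHeartbeats 400000

open Groth.Agent.GlueFlatLib

variable {R R' : Type u} [CommRing R] [CommRing R'] [Algebra R R'] {f : R}

/-- A submodule which generates in both corners is everything. -/
lemma eq_top_of_glueing (hRR : EtGlue.IsGlueingPair R R' f) {Q : Type u} [AddCommGroup Q]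
    [Module R Q] (N : Submodule R Q) (h1 : Function.Surjective (N.subtype.lTensor R'))
    (h2 : Function.Surjective (N.subtype.lTensor (Localization.Away f))) : N = ⊤ := by
  have aux : ∀ (C : Type u) [CommRing C] [Algebra R C], Function.Surjective (N.subtype.lTensor C) →
      Subsingleton (C ⊗[R] (Q ⧸ N)) := by
    intro C _ _ h
    refine subsingleton_of_forall_eq 0 fun w => ?_
    obtain ⟨z, rfl⟩ := LinearMap.lTensor_surjective C N.mkQ_surjective w
    obtain ⟨y, rfl⟩ := h z
    rw [← LinearMap.lTensor_comp_apply, (LinearMap.exact_subtype_mkQ N).linearMap_comp_eq_zero,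
      LinearMap.lTensor_zero, LinearMap.zero_apply]
  have := aux R' h1
  have := aux _ h2
  exact Submodule.Quotient.subsingleton_iff.1 (subsingleton_of_glueing hRR (Q ⧸ N))

theorem finiteType_of_glueing (hRR : EtGlue.IsGlueingPair R R' f) (B : Type u) [CommRing B]
    [Algebra R B] [Algebra.FiniteType R' (R' ⊗[R] B)]
    [Algebra.FiniteType (Localization.Away f) (Localization.Away f ⊗[R] B)] :
    Algebra.FiniteType R B := by
  classical
  have gen : ∀ (C : Type u) [CommRing C] [Algebra R C] [Algebra.FiniteType C (C ⊗[R] B)],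
      ∃ G : Finset B, ∀ P : Subalgebra R B, (G : Set B) ⊆ P →
        Function.Surjective (P.val.toLinearMap.lTensor C) := by
    intro C _ _ _
    obtain ⟨s, hs⟩ := Algebra.FiniteType.out (R := C) (A := C ⊗[R] B)
    choose F hF using fun z : C ⊗[R] B => TensorProduct.exists_finset z
    refine ⟨s.biUnion fun z => (F z).image Prod.snd, fun P hP => ?_⟩
    let m : C ⊗[R] P →ₐ[C] C ⊗[R] B := Algebra.TensorProduct.map (AlgHom.id C C) P.val
    have hrange : m.range = ⊤ := by
      refine top_le_iff.1 (hs.ge.trans (Algebra.adjoin_le fun z hz => ?_))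
      rw [hF z]
      refine Subalgebra.sum_mem _ fun i hi => ?_
      exact ⟨i.1 ⊗ₜ ⟨i.2, hP (Finset.mem_biUnion.2 ⟨z, hz, Finset.mem_image.2 ⟨i, hi, rfl⟩⟩)⟩, rfl⟩
    intro z
    obtain ⟨y, hy⟩ : z ∈ m.range := by rw [hrange]; exact Algebra.mem_top
    refine ⟨y, ?_⟩
    rw [← hy]
    clear hy
    induction y using TensorProduct.induction_on with
    | zero => simp
    | tmul a b => rfl
    | add a b ha hb => simp only [map_add, ha, hb]
  obtain ⟨G₁, hG₁⟩ := gen R'
  obtain ⟨G₂, hG₂⟩ := gen (Localization.Away f)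
  let P := Algebra.adjoin R ((G₁ ∪ G₂ : Finset B) : Set B)
  have h := eq_top_of_glueing hRR (Subalgebra.toSubmodule P)
    (hG₁ P fun x hx => Algebra.subset_adjoin (Finset.mem_union_left _ hx))
    (hG₂ P fun x hx => Algebra.subset_adjoin (Finset.mem_union_right _ hx))
  exact ⟨⟨G₁ ∪ G₂, Algebra.toSubmodule_eq_top.1 h⟩⟩

theorem finitePresentation_of_glueing (hRR : EtGlue.IsGlueingPair R R' f) (B : Type u)
    [CommRing B] [Algebra R B] [Module.Flat R B]
    [Algebra.FinitePresentation R' (R' ⊗[R] B)]
    [Algebra.FinitePresentation (Localization.Away f) (Localization.Away f ⊗[R] B)] :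
    Algebra.FinitePresentation R B := by
  classical
  have : Algebra.FiniteType R B := finiteType_of_glueing hRR B
  obtain ⟨n, π, hπ⟩ := Algebra.FiniteType.iff_quotient_mvPolynomial''.1 this
  let I := RingHom.ker π
  have gen : ∀ (C : Type u) [CommRing C] [Algebra R C]
      [Algebra.FinitePresentation C (C ⊗[R] B)],
      ∃ G : Finset (MvPolynomial (Fin n) R), (∀ g ∈ G, g ∈ I) ∧
        ∀ J : Ideal (MvPolynomial (Fin n) R), (∀ g ∈ G, g ∈ J) → ∀ hJI : J ≤ I,
          Function.Surjective ((Submodule.inclusion
            (show J.restrictScalars R ≤ I.restrictScalars R from hJI)).lTensor C) := by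
    intro C _ _ _
    let π' : C ⊗[R] MvPolynomial (Fin n) R →ₐ[C] C ⊗[R] B :=
      Algebra.TensorProduct.map (AlgHom.id C C) π
    have hπ' : Function.Surjective π' := LinearMap.lTensor_surjective C (g := π.toLinearMap) hπ
    have hfg : (RingHom.ker π'.toRingHom).FG :=
      Algebra.FinitePresentation.ker_fG_of_surjective π' hπ'
    have hker : RingHom.ker π'.toRingHom =
        I.map (Algebra.TensorProduct.includeRight :
          MvPolynomial (Fin n) R →ₐ[R] C ⊗[R] MvPolynomial (Fin n) R) :=
      Algebra.TensorProduct.lTensor_ker (A := C) π hπ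
    rw [hker, Ideal.map] at hfg
    obtain ⟨G', hG', hspan⟩ := (Submodule.fg_span_iff_fg_span_finset_subset _).1 hfg
    obtain ⟨G, hG, rfl⟩ := Finset.subset_set_image_iff.1 hG'
    refine ⟨G, hG, fun J hGJ hJI t => ?_⟩
    have hmap : I.map (Algebra.TensorProduct.includeRight :
          MvPolynomial (Fin n) R →ₐ[R] C ⊗[R] MvPolynomial (Fin n) R) ≤
        J.map (Algebra.TensorProduct.includeRight :
          MvPolynomial (Fin n) R →ₐ[R] C ⊗[R] MvPolynomial (Fin n) R) := by
      rw [Ideal.map]
      refine hspan.trans_le ?_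
      refine Submodule.span_le.2 ?_
      rw [Finset.coe_image]
      rintro _ ⟨g, hg, rfl⟩
      exact Ideal.mem_map_of_mem _ (hGJ g hg)
    have hinj : Function.Injective ((I.restrictScalars R).subtype.lTensor C) :=
      LinearMap.lTensor_injective_of_exact_of_flat π.toLinearMap hπ _ Subtype.val_injective
        (fun x => ⟨fun h => ⟨⟨x, h⟩, rfl⟩, fun ⟨y, hy⟩ => hy ▸ y.2⟩) C
    have h1 : (I.restrictScalars R).subtype.lTensor C t ∈
        LinearMap.range ((J.restrictScalars R).subtype.lTensor C) := by
      rw [← Ideal.map_includeRight_eq, Submodule.restrictScalars_mem]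
      apply hmap
      rw [← Submodule.restrictScalars_mem R, Ideal.map_includeRight_eq]
      exact ⟨t, rfl⟩
    obtain ⟨s, hs⟩ := h1
    refine ⟨s, hinj ?_⟩
    rw [← LinearMap.lTensor_comp_apply, Submodule.subtype_comp_inclusion]
    exact hs
  obtain ⟨G₁, hG₁I, hG₁⟩ := gen R'
  obtain ⟨G₂, hG₂I, hG₂⟩ := gen (Localization.Away f)
  let J : Ideal (MvPolynomial (Fin n) R) := Ideal.span ((G₁ ∪ G₂ : Finset _) : Set _)
  have hJI : J ≤ I := Ideal.span_le.2 fun g hg => (Finset.mem_union.1 hg).elim (hG₁I g) (hG₂I g)
  let N : Submodule R (I.restrictScalars R) :=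
    (J.restrictScalars R).comap (I.restrictScalars R).subtype
  have aux : ∀ (C : Type u) [CommRing C] [Algebra R C],
      Function.Surjective ((Submodule.inclusion
        (show J.restrictScalars R ≤ I.restrictScalars R from hJI)).lTensor C) →
      Function.Surjective (N.subtype.lTensor C) := by
    intro C _ _ h
    let v : J.restrictScalars R →ₗ[R] N :=
      (Submodule.inclusion (show J.restrictScalars R ≤ I.restrictScalars R from hJI)).codRestrict N fun x => x.2
    refine Function.Surjective.of_comp (g := v.lTensor C) ?_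
    rw [← LinearMap.coe_comp, ← LinearMap.lTensor_comp]
    exact h
  have h := eq_top_of_glueing hRR N
    (aux R' (hG₁ J (fun x hx => Ideal.subset_span (Finset.mem_union_left _ hx)) hJI))
    (aux _ (hG₂ J (fun x hx => Ideal.subset_span (Finset.mem_union_right _ hx)) hJI))
  have hIJ : I = J := le_antisymm (fun x hx => (h.ge (Submodule.mem_top (x := ⟨x, hx⟩)) :)) hJI
  refine Algebra.FinitePresentation.of_surjective hπ ?_
  change I.FG
  rw [hIJ]
  exact ⟨G₁ ∪ G₂, rfl⟩

attribute [local instance] Algebra.TensorProduct.rightAlgebra in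
theorem formallyUnramified_of_glueing (hRR : EtGlue.IsGlueingPair R R' f) (B : Type u)
    [CommRing B] [Algebra R B] [Algebra.FormallyUnramified R' (R' ⊗[R] B)]
    [Algebra.FormallyUnramified (Localization.Away f) (Localization.Away f ⊗[R] B)] :
    Algebra.FormallyUnramified R B := by
  have : Subsingleton (R' ⊗[R] Ω[B⁄R]) :=
    (KaehlerDifferential.tensorKaehlerEquivBase R R' B (R' ⊗[R] B)).subsingleton
  have : Subsingleton (Localization.Away f ⊗[R] Ω[B⁄R]) :=
    (KaehlerDifferential.tensorKaehlerEquivBase R (Localization.Away f) B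
      (Localization.Away f ⊗[R] B)).subsingleton
  exact ⟨subsingleton_of_glueing hRR _⟩

theorem etale_of_glueing (hRR : EtGlue.IsGlueingPair R R' f) (B : Type u)
    [CommRing B] [Algebra R B] [Algebra.Etale R' (R' ⊗[R] B)]
    [Algebra.Etale (Localization.Away f) (Localization.Away f ⊗[R] B)] : Algebra.Etale R B := by
  have := flat_of_glueing hRR B
  have := finitePresentation_of_glueing hRR B
  have := formallyUnramified_of_glueing hRR B
  exact Algebra.Etale.of_formallyUnramified_of_flat

/-- A glueable algebra `A` gives a glueing pair `(A → R' ⊗ A, f)`. -/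
theorem glueingPair_baseChange (hRR : EtGlue.IsGlueingPair R R' f) (A A' : Type u) [CommRing A]
    [Algebra R A] [CommRing A'] [Algebra R A'] [Algebra A A'] [IsScalarTower R A A']
    (e : R' ⊗[R] A ≃ₐ[R] A') (he : ∀ a : A, e ((1 : R') ⊗ₜ a) = algebraMap A A' a)
    (hA : EtGlue.IsGlueable R R' f A) : EtGlue.IsGlueingPair A A' (algebraMap R A f) := by
  let fA := algebraMap R A f
  have hfA : algebraMap A A' fA = algebraMap R A' f :=
    (IsScalarTower.algebraMap_apply R A A' f).symm
  have hsm : ∀ (n : ℕ) (a : A), f ^ n • a = fA ^ n * a := fun n a => by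
    rw [Algebra.smul_def, map_pow]
  have hmk : ∀ (a : A), LocalizedModule.mkLinearMap (Submonoid.powers f) A a = 0 ↔
      algebraMap A (Localization.Away fA) a = 0 := by
    intro a
    rw [IsLocalizedModule.eq_zero_iff (Submonoid.powers f) (LocalizedModule.mkLinearMap _ A),
      IsLocalization.map_eq_zero_iff (Submonoid.powers fA)]
    constructor
    · rintro ⟨⟨_, n, rfl⟩, h⟩
      exact ⟨⟨fA ^ n, n, rfl⟩, (hsm n a).symm.trans h⟩
    · rintro ⟨⟨_, n, rfl⟩, h⟩
      exact ⟨⟨f ^ n, n, rfl⟩, (hsm n a).trans h⟩
  refine ⟨fun n hn => ⟨?_, ?_⟩, fun a b hab => ?_, fun x y hxy => ?_, fun z => ?_⟩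
  · rw [injective_iff_map_eq_zero]
    intro x hx
    obtain ⟨a, rfl⟩ := Ideal.Quotient.mk_surjective x
    rw [Ideal.quotientMap_mk, Ideal.Quotient.eq_zero_iff_mem, Ideal.map_span, Set.image_singleton,
      Ideal.mem_span_singleton'] at hx
    obtain ⟨t, ht⟩ := hx
    rw [Ideal.Quotient.eq_zero_iff_mem]
    rw [← Ideal.Quotient.eq_zero_iff_mem]
    have hC : ∀ q : A ⧸ Ideal.span {fA ^ n}, ∃ k : ℕ, f ^ k • q = 0 := fun q => by
      obtain ⟨b, rfl⟩ := Ideal.Quotient.mk_surjective q
      refine ⟨n, ?_⟩
      rw [Algebra.smul_def,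
        show algebraMap R (A ⧸ Ideal.span {fA ^ n}) (f ^ n) = Ideal.Quotient.mk _ (fA ^ n) by
          rw [← map_pow (algebraMap R A)]; rfl,
        ← map_mul, Ideal.Quotient.eq_zero_iff_mem]
      exact Ideal.mul_mem_right _ _ (Ideal.mem_span_singleton_self _)
    obtain ⟨_, _⟩ := exists_module_of_torsion (R' := R') hRR.1 _ hC
    let μ : R' ⊗[R] A →ₗ[R] A ⧸ Ideal.span {fA ^ n} :=
      ((Ideal.Quotient.mkₐ R (Ideal.span {fA ^ n})).toLinearMap.liftBaseChange R').restrictScalars R
    have h1 : e.symm (algebraMap A A' a) = f ^ n • e.symm t := by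
      rw [← ht, map_pow, hfA, mul_comm, ← map_pow, ← Algebra.smul_def, map_smul]
    have h2 := congrArg μ h1
    rw [← he, e.symm_apply_apply, map_smul] at h2
    have h3 : μ ((1 : R') ⊗ₜ a) = Ideal.Quotient.mk _ a := by simp [μ]
    rw [h3] at h2
    rw [h2]
    obtain ⟨b, hb⟩ := Ideal.Quotient.mk_surjective (μ (e.symm t))
    rw [← hb, Algebra.smul_def,
      show algebraMap R (A ⧸ Ideal.span {fA ^ n}) (f ^ n) = Ideal.Quotient.mk _ (fA ^ n) by
        rw [← map_pow (algebraMap R A)]; rfl,
      ← map_mul, Ideal.Quotient.eq_zero_iff_mem]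
    exact Ideal.mul_mem_right _ _ (Ideal.mem_span_singleton_self _)
  · intro x
    obtain ⟨x', rfl⟩ := Ideal.Quotient.mk_surjective x
    obtain ⟨w, rfl⟩ := e.surjective x'
    induction w using TensorProduct.induction_on with
    | zero => exact ⟨0, by rw [map_zero, map_zero, map_zero]⟩
    | add p q hp hq =>
      obtain ⟨a, ha⟩ := hp
      obtain ⟨b, hb⟩ := hq
      exact ⟨a + b, by rw [map_add, map_add, map_add, ha, hb]⟩
    | tmul r a =>
      obtain ⟨c, s, hcs⟩ := quot_lift hRR.1 n r
      refine ⟨Ideal.Quotient.mk _ (c • a), ?_⟩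
      rw [Ideal.quotientMap_mk, Ideal.Quotient.eq, Ideal.map_span, Set.image_singleton,
        Ideal.mem_span_singleton']
      refine ⟨-e (s ⊗ₜ a), ?_⟩
      rw [hcs, TensorProduct.add_tmul, map_add, map_pow, hfA, ← he, TensorProduct.tmul_smul,
        TensorProduct.smul_tmul', Algebra.smul_def, mul_one,
        show (algebraMap R R' (f ^ n) * s) ⊗ₜ[R] a = f ^ n • (s ⊗ₜ[R] a) by
          rw [TensorProduct.smul_tmul', Algebra.smul_def],
        map_smul, Algebra.smul_def (f ^ n) (e (s ⊗ₜ[R] a)), map_pow]
      ring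
  · simp only [Prod.mk.injEq] at hab
    obtain ⟨h1, h2⟩ := hab
    apply hA.1
    refine Prod.ext (e.injective ?_) ?_
    · rw [he, he, h1]
    · change LocalizedModule.mkLinearMap _ A a = LocalizedModule.mkLinearMap _ A b
      rw [← sub_eq_zero, ← map_sub, hmk, map_sub, h2, sub_self]
  · obtain ⟨a, ⟨_, n, rfl⟩, rfl⟩ := IsLocalization.exists_mk'_eq (Submonoid.powers fA) y
    obtain ⟨w, rfl⟩ := e.surjective x
    rw [Localization.awayMap, IsLocalization.Away.map, IsLocalization.map_mk',
      IsLocalization.eq_mk'_iff_mul_eq, ← map_mul] at hxy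
    obtain ⟨⟨c, k, rfl⟩, hk⟩ :=
      IsLocalization.exists_of_eq (M := Submonoid.powers (algebraMap A A' fA)) hxy
    have hk' : f ^ k • (f ^ n • w) = f ^ k • ((1 : R') ⊗ₜ[R] a) := by
      apply e.injective
      rw [map_smul, map_smul, map_smul, he, Algebra.smul_def, Algebra.smul_def, Algebra.smul_def,
        map_pow, map_pow]
      simp only [map_pow, hfA] at hk
      linear_combination hk
    obtain ⟨m, hm1, hm2⟩ := hA.2 w
      (LocalizedModule.mk a (⟨f ^ n, n, rfl⟩ : Submonoid.powers f)) (by
        simp only [EtGlue.tensorOfLoc, EtGlue.locOfTensor, LocalizedModule.mkLinearMap_apply,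
          IsLocalizedModule.map_LocalizedModules, TensorProduct.mk_apply]
        rw [LocalizedModule.mk_eq]
        refine ⟨⟨f ^ k, k, rfl⟩, ?_⟩
        simp only [Submonoid.smul_def, one_smul]
        exact hk')
    rw [LocalizedModule.mkLinearMap_apply, LocalizedModule.mk_eq] at hm2
    obtain ⟨⟨_, j, rfl⟩, hj⟩ := hm2
    simp only [Submonoid.smul_def, one_smul] at hj
    refine ⟨m, by rw [← he, hm1], ?_⟩
    rw [IsLocalization.eq_mk'_iff_mul_eq, ← map_mul,
      IsLocalization.eq_iff_exists (Submonoid.powers fA)]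
    refine ⟨⟨fA ^ j, j, rfl⟩, ?_⟩
    have := hj
    rw [hsm, hsm, hsm] at this
    linear_combination this
  · obtain ⟨w, ⟨_, n, rfl⟩, rfl⟩ :=
      IsLocalization.exists_mk'_eq (Submonoid.powers (algebraMap A A' fA)) z
    obtain ⟨w, rfl⟩ := e.surjective w
    induction w using TensorProduct.induction_on with
    | zero => exact ⟨0, 0, by simp⟩
    | add p q hp hq =>
      obtain ⟨x₁, y₁, h₁⟩ := hp
      obtain ⟨x₂, y₂, h₂⟩ := hq
      refine ⟨x₁ + x₂, y₁ + y₂, ?_⟩
      rw [map_add, map_add, map_add, add_sub_add_comm, h₁, h₂, IsLocalization.mk'_eq_mul_mk'_one,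
        IsLocalization.mk'_eq_mul_mk'_one (x := e q),
        IsLocalization.mk'_eq_mul_mk'_one (x := e p + e q), map_add, add_mul]
    | tmul r a =>
      let ι : R' →+* A' := e.toAlgHom.toRingHom.comp Algebra.TensorProduct.includeLeftRingHom
      have hι : ∀ r : R, ι (algebraMap R R' r) = algebraMap R A' r := fun r => by
        change e (algebraMap R R' r ⊗ₜ[R] (1 : A)) = _
        rw [← e.commutes r, Algebra.TensorProduct.algebraMap_apply]
      have hιf : IsUnit ((algebraMap A' (Localization.Away (algebraMap A A' fA))).comp ι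
          (algebraMap R R' f)) := by
        rw [RingHom.comp_apply, hι, ← hfA]
        exact IsLocalization.Away.algebraMap_isUnit _
      let j : Localization.Away (algebraMap R R' f) →+* Localization.Away (algebraMap A A' fA) :=
        IsLocalization.Away.lift (algebraMap R R' f) hιf
      have hj : ∀ v : Localization.Away f, j (Localization.awayMap (algebraMap R R') f v) =
          Localization.awayMap (algebraMap A A') fA (Localization.awayMap (algebraMap R A) f v) := by
        refine RingHom.congr_fun (f := j.comp (Localization.awayMap (algebraMap R R') f))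
          (g := (Localization.awayMap (algebraMap A A') fA).comp
            (Localization.awayMap (algebraMap R A) f)) (IsLocalization.ringHom_ext
              (Submonoid.powers f) (RingHom.ext fun v => ?_))
        simp only [RingHom.comp_apply, Localization.awayMap, IsLocalization.Away.map,
          IsLocalization.map_eq, j, IsLocalization.Away.lift_eq, hι, fA,
          ← IsScalarTower.algebraMap_apply R A A']
      obtain ⟨x₁, v, hv⟩ := hRR.2.2.2 (IsLocalization.mk' _ r
        (⟨algebraMap R R' f ^ n, n, rfl⟩ : Submonoid.powers (algebraMap R R' f)))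
      refine ⟨e (x₁ ⊗ₜ a), Localization.awayMap (algebraMap R A) f v * algebraMap A _ a, ?_⟩
      have hea : ∀ x : R', e (x ⊗ₜ[R] a) = ι x * algebraMap A A' a := fun x => by
        rw [← he a]
        change _ = e (x ⊗ₜ[R] 1) * e (1 ⊗ₜ[R] a)
        rw [← map_mul, Algebra.TensorProduct.tmul_mul_tmul, mul_one, one_mul]
      have h := congrArg j hv
      rw [map_sub, hj] at h
      rw [show Localization.awayMap (algebraMap A A') fA
          (Localization.awayMap (algebraMap R A) f v * algebraMap A _ a) =
        Localization.awayMap (algebraMap A A') fA (Localization.awayMap (algebraMap R A) f v) *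
          algebraMap A' _ (algebraMap A A' a) by
          rw [map_mul]; congr 1; exact IsLocalization.map_eq _ a]
      rw [IsLocalization.eq_mk'_iff_mul_eq, hea, hea, map_mul, map_mul]
      have hu : j (algebraMap R' _ x₁) = algebraMap A' _ (ι x₁) :=
        IsLocalization.Away.lift_eq _ hιf x₁
      rw [hu] at h
      have h' := congrArg j (IsLocalization.mk'_spec (Localization.Away (algebraMap R R' f)) r
        (⟨algebraMap R R' f ^ n, n, rfl⟩ : Submonoid.powers (algebraMap R R' f)))
      rw [map_mul, ← h] at h'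
      simp only [map_pow, j, IsLocalization.Away.lift_eq, RingHom.comp_apply, hι, ← hfA] at h'
      simp only [map_pow, j]
      linear_combination algebraMap A' _ (algebraMap A A' a) * h'

end Groth.Agent.GlueAlgLib
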