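import Mathlib
import Groth.Agent.GlueAlgLib.Basic

/-!
Properties of a map of glueable algebras read on the two corners of a glueing pair.
-/

set_option autoImplicit false
universe u

open TensorProduct

namespace Groth.Agent.GlueAlgLib

set_option maxHeartbeats 400000

/-- Both corners of a map `A → B` of `R`-algebras are base changes of it. -/
theorem exists_corners {R R' : Type u} [CommRing R] [CommRing R'] [Algebra R R'] {f : R}
    (hRR : EtGlue.IsGlueingPair R R' f) {A B : Type u} [CommRing A] [Algebra R A] [CommRing B]
    [Algebra R B] (hA : EtGlue.IsGlueable R R' f A) (φ : A →ₐ[R] B) :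
    letI := φ.toRingHom.toAlgebra
    letI : Algebra A (R' ⊗[R] A) := Algebra.TensorProduct.rightAlgebra
    EtGlue.IsGlueingPair A (R' ⊗[R] A) (algebraMap R A f) ∧
      (letI := (Localization.awayMap φ.toRingHom (algebraMap R A f)).toAlgebra
       Nonempty (Localization.Away (algebraMap R A f) ⊗[A] B ≃ₐ[Localization.Away (algebraMap R A f)]
         Localization.Away (φ.toRingHom (algebraMap R A f)))) ∧
      (letI := (Algebra.TensorProduct.map (AlgHom.id R R') φ).toRingHom.toAlgebra
       Nonempty ((R' ⊗[R] A) ⊗[A] B ≃ₐ[R' ⊗[R] A] R' ⊗[R] B)) := by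
  let := φ.toRingHom.toAlgebra
  have : IsScalarTower R A B := IsScalarTower.of_algebraMap_eq fun r => (φ.commutes r).symm
  let : Algebra A (R' ⊗[R] A) := Algebra.TensorProduct.rightAlgebra
  have : IsScalarTower R A (R' ⊗[R] A) := IsScalarTower.of_algebraMap_eq fun r =>
    (Algebra.TensorProduct.includeRight.commutes r).symm
  refine ⟨glueingPair_baseChange hRR A _ AlgEquiv.refl (fun a => rfl) hA, ?_, ?_⟩
  · let := (Localization.awayMap φ.toRingHom (algebraMap R A f)).toAlgebra
    have : IsScalarTower A (Localization.Away (algebraMap R A f))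
        (Localization.Away (φ.toRingHom (algebraMap R A f))) := by
      refine IsScalarTower.of_algebraMap_eq fun a => ?_
      change _ = IsLocalization.Away.map _ _ φ.toRingHom (algebraMap R A f) (algebraMap A _ a)
      rw [IsLocalization.Away.map, IsLocalization.map_eq]
      exact IsScalarTower.algebraMap_apply A B _ a
    have : IsLocalization (Algebra.algebraMapSubmonoid B (Submonoid.powers (algebraMap R A f)))
        (Localization.Away (φ.toRingHom (algebraMap R A f))) := by
      rw [Algebra.algebraMapSubmonoid, Submonoid.map_powers]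
      exact inferInstanceAs (IsLocalization.Away (φ.toRingHom (algebraMap R A f)) _)
    have : Algebra.IsPushout A B (Localization.Away (algebraMap R A f))
        (Localization.Away (φ.toRingHom (algebraMap R A f))) :=
      Algebra.isPushout_of_isLocalization (Submonoid.powers (algebraMap R A f))
        (Localization.Away (algebraMap R A f)) B _
    have := this.symm
    exact ⟨Algebra.IsPushout.equiv A _ B _⟩
  · let := (Algebra.TensorProduct.map (AlgHom.id R R') φ).toRingHom.toAlgebra
    let : Algebra B (R' ⊗[R] B) := Algebra.TensorProduct.rightAlgebra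
    let : Algebra A (R' ⊗[R] B) := ((algebraMap B (R' ⊗[R] B)).comp φ.toRingHom).toAlgebra
    have : IsScalarTower A B (R' ⊗[R] B) := IsScalarTower.of_algebraMap_eq' rfl
    have : IsScalarTower R B (R' ⊗[R] B) := IsScalarTower.of_algebraMap_eq fun r =>
      (Algebra.TensorProduct.includeRight.commutes r).symm
    have : IsScalarTower R' (R' ⊗[R] A) (R' ⊗[R] B) := IsScalarTower.of_algebraMap_eq fun r =>
      ((Algebra.TensorProduct.map (AlgHom.id R' R') φ).commutes r).symm
    have : IsScalarTower R (R' ⊗[R] A) (R' ⊗[R] B) := IsScalarTower.of_algebraMap_eq fun r =>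
      ((Algebra.TensorProduct.map (AlgHom.id R R') φ).commutes r).symm
    have : IsScalarTower A (R' ⊗[R] A) (R' ⊗[R] B) := IsScalarTower.of_algebraMap_eq fun a => by
      change (1 : R') ⊗ₜ[R] φ a = Algebra.TensorProduct.map (AlgHom.id R R') φ ((1 : R') ⊗ₜ[R] a)
      rw [Algebra.TensorProduct.map_tmul, AlgHom.id_apply]
    have h1 : Algebra.IsPushout R A R' (R' ⊗[R] A) := TensorProduct.isPushout'
    have h2 : Algebra.IsPushout R B R' (R' ⊗[R] B) := TensorProduct.isPushout'
    have := ((Algebra.IsPushout.comp_iff R A R' (S' := R' ⊗[R] A) (T := B) (T' := R' ⊗[R] B)).1 h2).symm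
    exact ⟨Algebra.IsPushout.equiv A _ B _⟩

end Groth.Agent.GlueAlgLib
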